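import Mathlib

open CategoryTheory CategoryTheory.Limits AlgebraicGeometry

namespace Helper5.SigmaConst

universe u
variable (S : Scheme.{u}) (M : Type u) {T : Scheme.{u}}

/-- the index of the component containing `f t` -/
noncomputable def idx (f : T ⟶ ∐ (fun _ : M => S)) (t : T) : M :=
  ((sigmaMk (fun _ : M => S)).symm (f.base t)).1

lemma idx_eq_iff (f : T ⟶ ∐ (fun _ : M => S)) (t : T) (m : M) :
    idx S M f t = m ↔ f.base t ∈ (Sigma.ι (fun _ : M => S) m).opensRange := by
  constructor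
  · rintro rfl
    refine ⟨((sigmaMk (fun _ : M => S)).symm (f.base t)).2, ?_⟩
    rw [← sigmaMk_mk]
    exact (sigmaMk (fun _ : M => S)).apply_symm_apply _
  · rintro ⟨s, hs⟩
    have : (sigmaMk (fun _ : M => S)).symm (f.base t) = ⟨m, s⟩ := by
      rw [Homeomorph.symm_apply_eq, sigmaMk_mk]; exact hs.symm
    unfold idx
    rw [this]

lemma isLocallyConstant_idx (f : T ⟶ ∐ (fun _ : M => S)) : IsLocallyConstant (idx S M f) := by
  rw [IsLocallyConstant.iff_isOpen_fiber]
  intro m
  have : idx S M f ⁻¹' {m} = f.base ⁻¹' ((Sigma.ι (fun _ : M => S) m).opensRange : Set _) := by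
    ext t
    exact idx_eq_iff S M f t m
  rw [this]
  exact (Sigma.ι (fun _ : M => S) m).opensRange.isOpen.preimage f.continuous

/-- On an open mapped into the `m`-th component, a morphism over `S` is determined. -/
lemma restrict_eq (p : T ⟶ S) (f : T ⟶ ∐ (fun _ : M => S))
    (hf : f ≫ Sigma.desc (fun _ : M => 𝟙 S) = p) (U : T.Opens) (m : M)
    (hU : ∀ t ∈ U, idx S M f t = m) :
    U.ι ≫ f = (U.ι ≫ p) ≫ Sigma.ι (fun _ : M => S) m := by
  have hr : Set.range (U.ι ≫ f).base ⊆ Set.range (Sigma.ι (fun _ : M => S) m).base := by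
    rintro _ ⟨x, rfl⟩
    have := (idx_eq_iff S M f (U.ι.base x) m).1 (hU _ x.2)
    simpa using this
  have h1 := IsOpenImmersion.lift_fac (Sigma.ι (fun _ : M => S) m) (U.ι ≫ f) hr
  have h2 : IsOpenImmersion.lift (Sigma.ι (fun _ : M => S) m) (U.ι ≫ f) hr = U.ι ≫ p := by
    have := congrArg (fun t => t ≫ Sigma.desc (fun _ : M => 𝟙 S)) h1
    simp only [Category.assoc, Sigma.ι_desc, Category.comp_id, hf] at this
    exact this
  rw [← h2, h1]

theorem main (p : T ⟶ S) :
    ∃ e : {f : T ⟶ ∐ (fun _ : M => S) // f ≫ Sigma.desc (fun _ : M => 𝟙 S) = p} ≃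
        LocallyConstant T M,
      ∀ (f : {f : T ⟶ ∐ (fun _ : M => S) // f ≫ Sigma.desc (fun _ : M => 𝟙 S) = p}) (t : T),
        e f t = ((sigmaMk (fun _ : M => S)).symm (f.1.base t)).1 := by
  let F : {f : T ⟶ ∐ (fun _ : M => S) // f ≫ Sigma.desc (fun _ : M => 𝟙 S) = p} →
      LocallyConstant T M := fun f => ⟨idx S M f.1, isLocallyConstant_idx S M f.1⟩
  have hinj : Function.Injective F := by
    rintro ⟨f, hf⟩ ⟨g, hg⟩ h
    have hfg : ∀ t, idx S M f t = idx S M g t := fun t => congrArg (fun c => c t) h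
    apply Subtype.ext
    apply Scheme.hom_ext_of_forall
    intro t
    let U : T.Opens := ⟨idx S M f ⁻¹' {idx S M f t},
      (isLocallyConstant_idx S M f).isOpen_fiber _⟩
    refine ⟨U, rfl, ?_⟩
    rw [restrict_eq S M p f hf U (idx S M f t) (fun t' ht' => ht'),
      restrict_eq S M p g hg U (idx S M f t) (fun t' ht' => (hfg t').symm.trans ht')]
  have hsurj : Function.Surjective F := by
    intro c
    let U : M → T.Opens := fun m => ⟨c ⁻¹' {m}, c.isLocallyConstant.isOpen_fiber m⟩
    have hcov : ⨆ m, ((U m).ι).opensRange = ⊤ := by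
      rw [eq_top_iff]
      intro t _
      rw [TopologicalSpace.Opens.mem_iSup]
      exact ⟨c t, by rw [Scheme.Opens.opensRange_ι]; rfl⟩
    have hdisj : Pairwise (Function.onFun Disjoint (fun m => ((U m).ι).opensRange)) := by
      intro m m' hmm'
      simp only [Function.onFun, Scheme.Opens.opensRange_ι]
      rw [disjoint_iff]
      ext t
      simp only [U, TopologicalSpace.Opens.coe_inf,
        Set.mem_inter_iff,
        TopologicalSpace.Opens.coe_bot, Set.mem_empty_iff_false, iff_false, not_and]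
      rintro rfl h
      exact hmm' h
    obtain ⟨hc⟩ := nonempty_isColimit_cofanMk_of (fun m => (U m).ι) hcov hdisj
    let f : T ⟶ ∐ (fun _ : M => S) :=
      Cofan.IsColimit.desc hc (fun m => ((U m).ι ≫ p) ≫ Sigma.ι (fun _ : M => S) m)
    have hfac : ∀ m, (U m).ι ≫ f = ((U m).ι ≫ p) ≫ Sigma.ι (fun _ : M => S) m :=
      fun m => Cofan.IsColimit.fac hc _ m
    have hf : f ≫ Sigma.desc (fun _ : M => 𝟙 S) = p := by
      apply Cofan.IsColimit.hom_ext hc
      intro m
      change (U m).ι ≫ f ≫ _ = (U m).ι ≫ p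
      rw [← Category.assoc, hfac, Category.assoc, Sigma.ι_desc, Category.comp_id]
    refine ⟨⟨f, hf⟩, ?_⟩
    ext t
    change idx S M f t = c t
    rw [idx_eq_iff]
    have ht : t ∈ U (c t) := rfl
    refine ⟨p.base t, ?_⟩
    have := congrArg (fun g => g.base ⟨t, ht⟩) (hfac (c t))
    simp only [Scheme.Hom.comp_base, TopCat.hom_comp] at this
    exact this.symm
  exact ⟨Equiv.ofBijective F ⟨hinj, hsurj⟩, fun f t => rfl⟩

end Helper5.SigmaConst
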